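import Mathlib.NumberTheory.Padics.PadicVal.Basic
import Mathlib.Tactic

/-!
Arithmetic for the orders of nilpotent subgroups of symmetric and alternating groups.
-/

set_option autoImplicit false

namespace Cfsg.Agent.PermNil

open scoped Nat

/-- The exponent of two in `n!`. -/
def e (n : ℕ) : ℕ := padicValNat 2 n !

/-- The bound for nilpotent subgroups of the symmetric group. -/
def F (n : ℕ) : ℕ := if n % 4 = 3 then 3 * 2 ^ e (n - 3) else 2 ^ e n

/-- The bound for nilpotent subgroups of the alternating group. -/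
def H (n : ℕ) : ℕ :=
  if n % 4 = 3 then (if n = 3 then 3 else 3 * 2 ^ (e (n - 3) - 1))
  else if n = 5 then 5 else if n = 6 then 9 else if n = 9 then 81 else 2 ^ (e n - 1)

/-- The bound for nilpotent groups centralizing a fixed point free element with `k` cycles of length `p`. -/
def B (p k : ℕ) : ℕ := max (p ^ (k + padicValNat p k !)) (p ^ (k - 1) * F k)

def c (n : ℕ) : ℕ := if n % 4 = 3 then 3 else 2

def w (x : ℕ) : ℕ :=
  if x % 16 = 0 then 4 else if x % 8 = 0 then 3 else if x % 4 = 0 then 2 else if x % 2 = 0 then 1 else 0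

def L (ρ m : ℕ) : ℕ := ∑ i ∈ Finset.range m, w (ρ + i + 1)

def eS (n : ℕ) : ℕ := n / 2 + n / 4 + n / 8 + n / 16 + n / 32

def FS (n : ℕ) : ℕ := if n % 4 = 3 then 3 * 2 ^ eS (n - 3) else 2 ^ eS n

def HS (n : ℕ) : ℕ :=
  if n % 4 = 3 then (if n = 3 then 3 else 3 * 2 ^ (eS (n - 3) - 1))
  else if n = 5 then 5 else if n = 6 then 9 else if n = 9 then 81 else 2 ^ (eS n - 1)

def BS (p k : ℕ) : ℕ := max (p ^ (k + (k / p + k / p ^ 2 + k / p ^ 3))) (p ^ (k - 1) * FS k)

theorem e_add (a b : ℕ) : e a + e b ≤ e (a + b) := by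
  haveI : Fact (Nat.Prime 2) := ⟨Nat.prime_two⟩
  unfold e
  rw [← padicValNat.mul (Nat.factorial_ne_zero a) (Nat.factorial_ne_zero b)]
  exact (padicValNat_dvd_iff_le (Nat.factorial_ne_zero _)).mp
    (pow_padicValNat_dvd.trans (Nat.factorial_mul_factorial_dvd_factorial_add a b))

theorem e_succ (n : ℕ) : e (n + 1) = padicValNat 2 (n + 1) + e n := by
  haveI : Fact (Nat.Prime 2) := ⟨Nat.prime_two⟩
  unfold e
  rw [Nat.factorial_succ, padicValNat.mul (Nat.succ_ne_zero n) (Nat.factorial_ne_zero n)]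

theorem e_eq {n : ℕ} (h : n < 64) : e n = eS n := by
  haveI : Fact (Nat.Prime 2) := ⟨Nat.prime_two⟩
  rw [e, padicValNat_factorial (p := 2) (b := 6) (Nat.log_lt_of_lt_pow' (by norm_num) (by simpa using h))]
  simp [Finset.sum_Ico_eq_sum_range, Finset.sum_range_succ, eS]

theorem F_eq {n : ℕ} (h : n < 64) : F n = FS n := by
  unfold F FS
  rw [e_eq h, e_eq (show n - 3 < 64 by omega)]

theorem H_eq {n : ℕ} (h : n < 64) : H n = HS n := by
  unfold H HS
  rw [e_eq h, e_eq (show n - 3 < 64 by omega)]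

theorem B_eq {p k : ℕ} [hp : Fact p.Prime] (h : k < 64) (h' : k < p ^ 4) : B p k = BS p k := by
  unfold B BS
  rw [F_eq h, padicValNat_factorial (p := p) (b := 4) (Nat.log_lt_of_lt_pow' (by norm_num) h')]
  simp [Finset.sum_Ico_eq_sum_range, Finset.sum_range_succ]

theorem w_le {x : ℕ} (hx : x ≠ 0) : w x ≤ padicValNat 2 x := by
  haveI : Fact (Nat.Prime 2) := ⟨Nat.prime_two⟩
  refine (padicValNat_dvd_iff_le hx).mp (Nat.dvd_of_mod_eq_zero ?_)
  unfold w
  split_ifs <;> first | assumption | (norm_num <;> omega)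

theorem e_L (r m : ℕ) : e r + L (r % 16) m ≤ e (r + m) := by
  induction m with
  | zero => simp [L]
  | succ m ih =>
    have h2 : w (r % 16 + m + 1) = w (r + m + 1) := by
      simp only [w, show (r % 16 + m + 1) % 16 = (r + m + 1) % 16 by omega,
        show (r % 16 + m + 1) % 8 = (r + m + 1) % 8 by omega,
        show (r % 16 + m + 1) % 4 = (r + m + 1) % 4 by omega,
        show (r % 16 + m + 1) % 2 = (r + m + 1) % 2 by omega]
    have h3 := w_le (x := r + m + 1) (by omega)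
    rw [show r + (m + 1) = r + m + 1 from rfl, e_succ, L, Finset.sum_range_succ, h2]
    rw [L] at ih
    omega

theorem e_three {n : ℕ} (h : n % 4 = 3) : e n = e (n - 3) + 1 := by
  haveI : Fact (Nat.Prime 2) := ⟨Nat.prime_two⟩
  obtain ⟨q, rfl⟩ : ∃ q, n = 4 * q + 3 := ⟨n / 4, by omega⟩
  have e1 : padicValNat 2 (4 * q + 1) = 0 := padicValNat.eq_zero_of_not_dvd (by omega)
  have e2 : padicValNat 2 (4 * q + 2) = 1 := by
    rw [show 4 * q + 2 = 2 * (2 * q + 1) by ring, padicValNat.mul (by norm_num) (Nat.succ_ne_zero _),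
      padicValNat.self (by norm_num), padicValNat.eq_zero_of_not_dvd (by omega)]
  have e3 : padicValNat 2 (4 * q + 3) = 0 := padicValNat.eq_zero_of_not_dvd (by omega)
  rw [show 4 * q + 3 - 3 = 4 * q by omega]
  have f1 := e_succ (4 * q)
  have f2 : e (4 * q + 2) = padicValNat 2 (4 * q + 2) + e (4 * q + 1) := e_succ (4 * q + 1)
  have f3 : e (4 * q + 3) = padicValNat 2 (4 * q + 3) + e (4 * q + 2) := e_succ (4 * q + 2)
  omega

theorem two_mul_F (n : ℕ) : 2 * F n = c n * 2 ^ e n := by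
  unfold F c
  split_ifs with h
  · rw [e_three h, pow_succ]; ring
  · rfl

theorem F_pos (n : ℕ) : 0 < F n := by
  unfold F; split_ifs <;> positivity

theorem one_le_e {n : ℕ} (h : 2 ≤ n) : 1 ≤ e n := by
  obtain ⟨q, rfl⟩ := Nat.exists_eq_add_of_le h
  exact le_trans (by rw [e_eq (by norm_num)]; decide) ((Nat.le_add_right _ _).trans (e_add 2 q))

theorem two_mul_H {n : ℕ} (h : 10 ≤ n) : 2 * H n = F n := by
  unfold H F
  split_ifs with h1 h2 <;> try omega
  · obtain ⟨d, hd⟩ := Nat.exists_eq_add_of_le (one_le_e (show 2 ≤ n - 3 by omega))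
    rw [hd, Nat.add_sub_cancel_left, pow_add]; ring
  · obtain ⟨d, hd⟩ := Nat.exists_eq_add_of_le (one_le_e (show 2 ≤ n by omega))
    rw [hd, Nat.add_sub_cancel_left, pow_add]; ring

theorem H_le_F (n : ℕ) : H n ≤ F n := by
  rcases Nat.lt_or_ge n 10 with h | h
  · rw [H_eq (by omega), F_eq (by omega)]
    interval_cases n <;> decide
  · have := two_mul_H h; omega

theorem F_le_four_H (n : ℕ) : 2 ^ e n ≤ 4 * H n := by
  rcases Nat.lt_or_ge n 10 with h | h
  · rw [H_eq (by omega), e_eq (by omega)]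
    interval_cases n <;> decide
  · have h1 := two_mul_H h
    have h2 := two_mul_F n
    have : 2 * 2 ^ e n ≤ c n * 2 ^ e n := Nat.mul_le_mul_right _ (by unfold c; split_ifs <;> omega)
    omega

/-- Legendre's bound from below. -/
theorem e_lower (m : ℕ) (hm : m ≠ 0) : m ≤ e m + Nat.log 2 m + 1 := by
  haveI : Fact (Nat.Prime 2) := ⟨Nat.prime_two⟩
  have h := sub_one_mul_padicValNat_factorial (p := 2) m
  rw [show (2 : ℕ) - 1 = 1 from rfl, one_mul] at h
  have h2 : (Nat.digits 2 m).sum ≤ Nat.log 2 m + 1 := by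
    rw [← Nat.length_digits 2 m (by norm_num) hm]
    have := List.sum_le_card_nsmul (Nat.digits 2 m) 1
      (fun x hx => Nat.le_of_lt_succ (Nat.digits_lt_base (by norm_num) hx))
    simpa using this
  unfold e
  omega

theorem F_le_pow {k : ℕ} (hk : k ≠ 0) : F k ≤ 2 ^ (k - 1) := by
  haveI : Fact (Nat.Prime 2) := ⟨Nat.prime_two⟩
  have hlt : ∀ j, j ≠ 0 → e j ≤ j - 1 := fun j hj => by
    have := padicValNat_factorial_lt_of_ne_zero 2 hj
    unfold e; omega
  unfold F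
  split_ifs with h
  · rcases Nat.lt_or_ge k 4 with h4 | h4
    · obtain rfl : k = 3 := by omega
      rw [e_eq (by norm_num)]; decide
    · calc 3 * 2 ^ e (k - 3) ≤ 4 * 2 ^ (k - 4) :=
            Nat.mul_le_mul (by norm_num) (Nat.pow_le_pow_right (by norm_num) (by have := hlt (k - 3) (by omega); omega))
        _ = 2 ^ (k - 2) := by rw [show k - 2 = (k - 4) + 2 by omega, pow_add]; ring
        _ ≤ 2 ^ (k - 1) := Nat.pow_le_pow_right (by norm_num) (by omega)
  · exact Nat.pow_le_pow_right (by norm_num) (hlt k hk)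

theorem B_le {p k : ℕ} [hp : Fact p.Prime] (hk : k ≠ 0) : B p k ≤ p ^ k * 2 ^ (k - 1) := by
  refine max_le ?_ (Nat.mul_le_mul (Nat.pow_le_pow_right hp.out.pos (by omega)) (F_le_pow hk))
  rw [pow_add]
  refine Nat.mul_le_mul_left _ ?_
  set v := padicValNat p k !
  have hv : (p - 1) * v ≤ k - 1 := by
    have := sub_one_mul_padicValNat_factorial_lt_of_ne_zero p hk
    change (p - 1) * v < k at this
    omega
  calc p ^ v ≤ (2 ^ (p - 1)) ^ v :=
        Nat.pow_le_pow_left (by have := Nat.lt_two_pow_self (n := p - 1); omega) v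
    _ = 2 ^ ((p - 1) * v) := (pow_mul _ _ _).symm
    _ ≤ 2 ^ (k - 1) := Nat.pow_le_pow_right (by norm_num) hv

theorem growth {p : ℕ} [hp : Fact p.Prime] (hp2 : p ≠ 2) {k : ℕ} (hk : k ≠ 0)
    (h : (p = 3 ∧ 22 ≤ k) ∨ (p = 5 ∧ 5 ≤ k) ∨ (p = 7 ∧ 3 ≤ k) ∨ 11 ≤ p) :
    (2 * p) ^ k * (8 * p * k) ≤ (2 ^ p) ^ k := by
  have hstep : ∀ k, 3 ≤ k ∨ (5 ≤ p ∧ 1 ≤ k) → (2 * p) ^ k * (8 * p * k) ≤ (2 ^ p) ^ k →
      (2 * p) ^ (k + 1) * (8 * p * (k + 1)) ≤ (2 ^ p) ^ (k + 1) := by
    intro k hk ih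
    have h1 : 2 * p * (k + 1) ≤ 2 ^ p * k := by
      rcases hk with hk | ⟨hp5, hk⟩
      · rcases eq_or_ne p 3 with rfl | h3
        · omega
        · have hp5 : 5 ≤ p := by
            have := hp.out.two_le
            have h4 : p ≠ 4 := fun h => by rw [h] at hp; exact absurd hp.out (by decide)
            omega
          calc 2 * p * (k + 1) ≤ 2 * p * (2 * k) := Nat.mul_le_mul_left _ (by omega)
            _ = 4 * p * k := by ring
            _ ≤ 2 ^ p * k := Nat.mul_le_mul_right _ (by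
              obtain ⟨q, rfl⟩ := Nat.exists_eq_add_of_le hp5
              have := Nat.lt_two_pow_self (n := q)
              rw [pow_add]; norm_num; omega)
      · calc 2 * p * (k + 1) ≤ 2 * p * (2 * k) := Nat.mul_le_mul_left _ (by omega)
          _ = 4 * p * k := by ring
          _ ≤ 2 ^ p * k := Nat.mul_le_mul_right _ (by
            obtain ⟨q, rfl⟩ := Nat.exists_eq_add_of_le hp5
            have := Nat.lt_two_pow_self (n := q)
            rw [pow_add]; norm_num; omega)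
    calc (2 * p) ^ (k + 1) * (8 * p * (k + 1))
        = (2 * p) ^ k * (8 * p) * (2 * p * (k + 1)) := by ring
      _ ≤ (2 * p) ^ k * (8 * p) * (2 ^ p * k) := Nat.mul_le_mul_left _ h1
      _ = (2 * p) ^ k * (8 * p * k) * 2 ^ p := by ring
      _ ≤ (2 ^ p) ^ k * 2 ^ p := Nat.mul_le_mul_right _ ih
      _ = (2 ^ p) ^ (k + 1) := (pow_succ _ _).symm
  rcases h with ⟨rfl, h⟩ | ⟨rfl, h⟩ | ⟨rfl, h⟩ | h
  · induction k, h using Nat.le_induction with
    | base => norm_num
    | succ k hk' ih => exact hstep k (Or.inl (by omega)) (ih (by omega))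
  · induction k, h using Nat.le_induction with
    | base => norm_num
    | succ k hk' ih => exact hstep k (Or.inl (by omega)) (ih (by omega))
  · induction k, h using Nat.le_induction with
    | base => norm_num
    | succ k hk' ih => exact hstep k (Or.inl hk') (ih (by omega))
  · have h1 : 1 ≤ k := Nat.pos_of_ne_zero hk
    induction k, h1 using Nat.le_induction with
    | base =>
      rw [pow_one, pow_one, mul_one]
      obtain ⟨q, rfl⟩ := Nat.exists_eq_add_of_le h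
      clear hp hp2 hstep hk
      induction q with
      | zero => norm_num
      | succ q ih =>
        rw [show 11 + (q + 1) = 11 + q + 1 from rfl, pow_succ]
        nlinarith [ih (Nat.le_add_right _ _)]
    | succ k hk' ih => exact hstep k (Or.inr ⟨by omega, hk'⟩) (ih (by omega))

/-- The pairs `(p, k)` needing individual attention. -/
def Exc (p k : ℕ) : Prop :=
  (p = 3 ∧ (k = 1 ∨ k = 2 ∨ k = 3 ∨ k = 4 ∨ k = 5 ∨ k = 9)) ∨ ((p = 5 ∨ p = 7) ∧ k = 1)

theorem small_three : ∀ k < 22, k = 0 ∨ k = 1 ∨ k = 2 ∨ k = 3 ∨ k = 4 ∨ k = 5 ∨ k = 9 ∨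
    8 * BS 3 k ≤ 2 ^ eS (3 * k) := by decide +kernel

theorem small_five : ∀ k < 5, k = 0 ∨ k = 1 ∨ 8 * BS 5 k ≤ 2 ^ eS (5 * k) := by decide +kernel

theorem small_seven : ∀ k < 3, k = 0 ∨ k = 1 ∨ 8 * BS 7 k ≤ 2 ^ eS (7 * k) := by decide +kernel

theorem eight_B_le {p k : ℕ} [hp : Fact p.Prime] (hp2 : p ≠ 2) (hk : k ≠ 0) (hx : ¬ Exc p k) :
    8 * B p k ≤ 2 ^ e (p * k) := by
  have hbig : ((p = 3 ∧ 22 ≤ k) ∨ (p = 5 ∧ 5 ≤ k) ∨ (p = 7 ∧ 3 ≤ k) ∨ 11 ≤ p) →
      8 * B p k ≤ 2 ^ e (p * k) := by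
    intro h
    have hm : p * k ≠ 0 := Nat.mul_ne_zero hp.out.ne_zero hk
    have h1 := e_lower _ hm
    have h2 := Nat.pow_log_le_self 2 hm
    have h3 : (2 ^ p) ^ k ≤ 2 ^ e (p * k) * (2 * (p * k)) := by
      rw [← pow_mul]
      calc 2 ^ (p * k) ≤ 2 ^ (e (p * k) + Nat.log 2 (p * k) + 1) := Nat.pow_le_pow_right (by norm_num) h1
        _ = 2 ^ e (p * k) * (2 * 2 ^ Nat.log 2 (p * k)) := by rw [pow_succ, pow_add]; ring
        _ ≤ _ := Nat.mul_le_mul_left _ (Nat.mul_le_mul_left _ h2)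
    have h4 := growth hp2 hk h
    have h5 : 8 * B p k * (2 * (p * k)) ≤ (2 * p) ^ k * (8 * p * k) := by
      have h6 : 2 * B p k ≤ (2 * p) ^ k := by
        calc 2 * B p k ≤ 2 * (p ^ k * 2 ^ (k - 1)) := Nat.mul_le_mul_left _ (B_le hk)
          _ = p ^ k * 2 ^ (k - 1 + 1) := by rw [pow_succ]; ring
          _ = (2 * p) ^ k := by rw [show k - 1 + 1 = k by omega, mul_pow, mul_comm]
      calc 8 * B p k * (2 * (p * k)) = 2 * B p k * (8 * p * k) := by ring
        _ ≤ _ := Nat.mul_le_mul_right _ h6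
    exact Nat.le_of_mul_le_mul_right (h5.trans (h4.trans h3)) (by positivity)
  unfold Exc at hx
  rcases Nat.lt_or_ge p 11 with hlt | hge
  swap
  · exact hbig (Or.inr (Or.inr (Or.inr hge)))
  have hp' := hp.out
  interval_cases p
  all_goals first | (norm_num at hp') | skip
  · omega
  · rcases Nat.lt_or_ge k 22 with h | h
    · rw [B_eq (by omega) (by norm_num; omega), e_eq (by omega)]
      rcases small_three k h with h' | h' | h' | h' | h' | h' | h' | h' <;>
        first | exact h' | omega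
    · exact hbig (Or.inl ⟨rfl, h⟩)
  · rcases Nat.lt_or_ge k 5 with h | h
    · rw [B_eq (by omega) (by norm_num; omega), e_eq (by omega)]
      rcases small_five k h with h' | h' | h' <;> first | exact h' | omega
    · exact hbig (Or.inr (Or.inl ⟨rfl, h⟩))
  · rcases Nat.lt_or_ge k 3 with h | h
    · rw [B_eq (by omega) (by norm_num; omega), e_eq (by omega)]
      rcases small_seven k h with h' | h' | h' <;> first | exact h' | omega
    · exact hbig (Or.inr (Or.inr (Or.inl ⟨rfl, h⟩)))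

theorem generic {p k : ℕ} [Fact p.Prime] (hp2 : p ≠ 2) (hk : k ≠ 0) (hx : ¬ Exc p k) (r : ℕ) :
    F r * B p k < H (r + p * k) := by
  have h1 := eight_B_le hp2 hk hx
  have h2 : 2 * F r ≤ 3 * 2 ^ e r :=
    (two_mul_F r).trans_le (Nat.mul_le_mul_right _ (by unfold c; split_ifs <;> omega))
  have h3 : 2 ^ e r * 2 ^ e (p * k) ≤ 2 ^ e (r + p * k) := by
    rw [← pow_add]; exact Nat.pow_le_pow_right (by norm_num) (e_add _ _)
  have h4 := F_le_four_H (r + p * k)
  have h5 : 0 < 2 ^ e (r + p * k) := by positivity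
  have h6 : 16 * (F r * B p k) ≤ 3 * 2 ^ e (r + p * k) := by
    calc 16 * (F r * B p k) = (2 * F r) * (8 * B p k) := by ring
      _ ≤ (3 * 2 ^ e r) * 2 ^ e (p * k) := Nat.mul_le_mul h2 h1
      _ ≤ 3 * 2 ^ e (r + p * k) := by rw [mul_assoc]; exact Nat.mul_le_mul_left _ h3
  omega

/-- The exceptional pairs. -/
def excList : List (ℕ × ℕ) := [(3, 1), (3, 2), (3, 3), (3, 4), (3, 5), (3, 9), (5, 1), (7, 1)]

theorem residues : ∀ pk ∈ excList, ∀ ρ < 16,
    c ρ * BS pk.1 pk.2 ≤ c (ρ + pk.1 * pk.2) * 2 ^ L ρ (pk.1 * pk.2) ∧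
      (pk.1 = 3 ∧ pk.2 = 1 ∧ ρ % 4 = 0 ∨
        c ρ * BS pk.1 pk.2 < c (ρ + pk.1 * pk.2) * 2 ^ L ρ (pk.1 * pk.2)) := by decide +kernel

theorem small_r : ∀ pk ∈ excList, ∀ r < 10,
    (HS r * BS pk.1 pk.2 ≤ HS (r + pk.1 * pk.2) ∧
      (pk.2 = 1 ∨ FS r * BS pk.1 pk.2 ≤ 2 * HS (r + pk.1 * pk.2))) ∧
    ((pk.1 = 3 ∧ pk.2 = 1 ∧ r % 4 = 0) ∨
      ((r + pk.1 * pk.2) % 4 ≠ 0 ∧ (r + pk.1 * pk.2) % 4 ≠ 3) ∨
      (HS r * BS pk.1 pk.2 < HS (r + pk.1 * pk.2) ∧
      (pk.2 = 1 ∨ FS r * BS pk.1 pk.2 < 2 * HS (r + pk.1 * pk.2)))) := by decide +kernel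

theorem mem_excList {p k : ℕ} (h : Exc p k) : (p, k) ∈ excList := by
  rcases h with ⟨rfl, h⟩ | ⟨rfl | rfl, rfl⟩
  · rcases h with rfl | rfl | rfl | rfl | rfl | rfl <;> decide
  all_goals decide

theorem exc_bounds {p k : ℕ} (h : Exc p k) : k < 64 ∧ k < p ^ 4 ∧ p * k ≤ 27 := by
  rcases h with ⟨rfl, h⟩ | ⟨rfl | rfl, rfl⟩ <;> norm_num
  omega

/-- The step inequality in the symmetric case. -/
theorem sym_step {p k : ℕ} [Fact p.Prime] (hp2 : p ≠ 2) (hk : k ≠ 0) (r : ℕ) :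
    F r * B p k ≤ F (r + p * k) ∧
      (¬ (p = 3 ∧ k = 1 ∧ r % 4 = 0) → F r * B p k < F (r + p * k)) := by
  by_cases hx : Exc p k
  swap
  · have h := (generic hp2 hk hx r).trans_le (H_le_F _)
    exact ⟨h.le, fun _ => h⟩
  obtain ⟨hk64, hkp, hm⟩ := exc_bounds hx
  rw [B_eq hk64 hkp]
  obtain ⟨h1, h2⟩ := residues _ (mem_excList hx) (r % 16) (Nat.mod_lt _ (by norm_num))
  simp only at h1 h2
  set b := BS p k
  set m := p * k
  have hc : ∀ x, c (r % 16 + x) = c (r + x) := fun x => by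
    simp only [c, show (r % 16 + x) % 4 = (r + x) % 4 by omega]
  have hc0 : c (r % 16) = c r := hc 0
  rw [hc m, hc0] at h1 h2
  have h3 : 2 ^ L (r % 16) m * 2 ^ e r ≤ 2 ^ e (r + m) := by
    rw [← pow_add, add_comm]; exact Nat.pow_le_pow_right (by norm_num) (e_L r m)
  have hl : 2 * (F r * b) = c r * b * 2 ^ e r := by
    rw [← mul_assoc, two_mul_F]; ring
  have hr : c (r + m) * 2 ^ L (r % 16) m * 2 ^ e r ≤ 2 * F (r + m) := by
    rw [two_mul_F, mul_assoc]; exact Nat.mul_le_mul_left _ h3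
  constructor
  · have := (Nat.mul_le_mul_right (2 ^ e r) h1).trans hr
    omega
  · intro hne
    rcases h2 with ⟨a, b', cc⟩ | h2
    · exact absurd ⟨a, b', by omega⟩ hne
    · have := (Nat.mul_lt_mul_of_pos_right h2 (show 0 < 2 ^ e r by positivity)).trans_le hr
      omega

/-- The step inequalities in the alternating case. -/
theorem alt_step {p k : ℕ} [Fact p.Prime] (hp2 : p ≠ 2) (hk : k ≠ 0) (r : ℕ) :
    (H r * B p k ≤ H (r + p * k) ∧ (k = 1 ∨ F r * B p k ≤ 2 * H (r + p * k))) ∧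
      ((r + p * k) % 4 = 0 ∨ (r + p * k) % 4 = 3 → ¬ (p = 3 ∧ k = 1 ∧ r % 4 = 0) →
        H r * B p k < H (r + p * k) ∧ (k = 1 ∨ F r * B p k < 2 * H (r + p * k))) := by
  by_cases hx : Exc p k
  swap
  · have h := generic hp2 hk hx r
    have h' : H r * B p k < H (r + p * k) := (Nat.mul_le_mul_right _ (H_le_F r)).trans_lt h
    exact ⟨⟨h'.le, Or.inr (by omega)⟩, fun _ _ => ⟨h', Or.inr (by omega)⟩⟩
  obtain ⟨hk64, hkp, hm⟩ := exc_bounds hx
  rcases Nat.lt_or_ge r 10 with hr | hr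
  · rw [B_eq hk64 hkp, H_eq (show r < 64 by omega), H_eq (show r + p * k < 64 by omega),
      F_eq (show r < 64 by omega)]
    obtain ⟨h1, h2⟩ := small_r _ (mem_excList hx) r hr
    refine ⟨h1, fun h4 hne => ?_⟩
    rcases h2 with h2 | h2 | h2
    · exact absurd h2 hne
    · simp only at h2; omega
    · exact h2
  · obtain ⟨h1, h2⟩ := sym_step (p := p) hp2 hk r
    have e1 := two_mul_H hr
    have e2 := two_mul_H (show 10 ≤ r + p * k by omega)
    have e3 : 2 * (H r * B p k) = F r * B p k := by rw [← mul_assoc, e1]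
    exact ⟨⟨by omega, Or.inr (by omega)⟩, fun _ hne =>
      ⟨by have := h2 hne; omega, Or.inr (by have := h2 hne; omega)⟩⟩

end Cfsg.Agent.PermNil
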