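import Cfsg.Agent.Lib.PermNil.Arith
import Cfsg.Agent.Lib.Transfer.Hall
import Cfsg.Agent.Lib.Transfer.Residual
import Mathlib.GroupTheory.Perm.Cycle.Type
import Mathlib.GroupTheory.SpecificGroups.Alternating

/-!
Orders of nilpotent subgroups of symmetric and alternating groups.
-/

set_option autoImplicit false

namespace Cfsg.Agent.PermNil

open Equiv

universe u

variable {p : ℕ} [hp : Fact p.Prime]

theorem zpow_fix {β : Type u} {w : Perm β} (hw : w ^ p = 1) {x : β} (hfp : w x ≠ x) {i : Fin p}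
    (h : (w ^ (i : ℕ)) x = x) : (i : ℕ) = 0 := by
  by_contra hi
  have hdvd : orderOf w ∣ p := orderOf_dvd_of_pow_eq_one hw
  obtain ⟨m, hm⟩ := exists_pow_eq_self_of_coprime (x := w) (n := (i : ℕ))
    ((Nat.Coprime.coprime_dvd_right hdvd
      ((hp.out.coprime_iff_not_dvd.mpr fun hd => by
        have := Nat.le_of_dvd (Nat.pos_of_ne_zero hi) hd
        have := i.2
        omega).symm)))
  have h1 : w ^ (i : ℕ) ∈ MulAction.stabilizer (Perm β) x := h
  have h2 := pow_mem h1 m
  rw [hm] at h2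
  exact hfp h2

theorem sameCycle_iff {β : Type u} {w : Perm β} (hw : w ^ p = 1) {x y : β} :
    w.SameCycle x y ↔ ∃ i : Fin p, (w ^ (i : ℕ)) x = y := by
  constructor
  · rintro ⟨j, rfl⟩
    have hp0 : (p : ℤ) ≠ 0 := Int.natCast_ne_zero.mpr hp.out.ne_zero
    refine ⟨⟨(j % p).toNat, by
      have := Int.emod_lt_of_pos j (show (0 : ℤ) < p by exact_mod_cast hp.out.pos)
      have := Int.emod_nonneg j hp0
      omega⟩, ?_⟩
    have e : w ^ (j % p) = w ^ j := by
      conv_rhs => rw [← Int.emod_add_mul_ediv j p, zpow_add, zpow_mul, zpow_natCast, hw, one_zpow, mul_one]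
    simp only
    rw [← zpow_natCast, Int.toNat_of_nonneg (Int.emod_nonneg j hp0), e]
  · rintro ⟨i, rfl⟩
    exact ⟨(i : ℕ), by rw [zpow_natCast]⟩

/-- A nilpotent group centralizing a fixed point free element of prime order. -/
theorem block_bound {β : Type u} [Fintype β] [DecidableEq β] {k : ℕ} (w : Perm β) (hw : w ^ p = 1)
    (hfp : ∀ x, w x ≠ x) (hcard : Fintype.card β = p * k) (M : Subgroup (Perm β))
    [Group.IsNilpotent M] (hc : ∀ m ∈ M, Commute m w)
    (ih : ∀ {γ : Type u} [Fintype γ] [DecidableEq γ] (N : Subgroup (Perm γ)),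
      Fintype.card γ = k → Group.IsNilpotent N → Nat.card N ≤ F k) :
    Nat.card M ≤ B p k := by
  classical
  let st : Setoid β := Perm.SameCycle.setoid w
  let Q := Quotient st
  let f : Q × Fin p → β := fun x => (w ^ (x.2 : ℕ)) x.1.out
  have hout : ∀ x : β, ∃ i : Fin p, (w ^ (i : ℕ)) (Quotient.mk st x).out = x := fun x =>
    (sameCycle_iff hw).mp (Quotient.exact (Quotient.out_eq (Quotient.mk st x)))
  have hclass : ∀ (i : ℕ) (x : β), Quotient.mk st ((w ^ i) x) = Quotient.mk st x := fun i x =>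
    Quotient.sound (show w.SameCycle _ _ from (Perm.SameCycle.symm ⟨(i : ℤ), by rw [zpow_natCast]⟩))
  have hf : Function.Bijective f := by
    refine ⟨fun a b hab => ?_, fun x => ?_⟩
    · obtain ⟨q, i⟩ := a
      obtain ⟨q', j⟩ := b
      have hq : q = q' := by
        have := congrArg (Quotient.mk st) hab
        simp only [f, hclass, Quotient.out_eq] at this
        exact this
      subst hq
      refine Prod.ext rfl ?_
      have hinj : ∀ i j : Fin p, (i : ℕ) ≤ j → (w ^ (i : ℕ)) q.out = (w ^ (j : ℕ)) q.out → i = j := by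
        intro i j hij h
        obtain ⟨d, hd⟩ := Nat.exists_eq_add_of_le hij
        rw [hd, pow_add, Perm.mul_apply] at h
        have h0 := zpow_fix hw (hfp q.out) (i := ⟨d, by have := j.2; omega⟩) ((w ^ (i : ℕ)).injective h).symm
        exact Fin.ext (by simp only at h0; omega)
      rcases le_total (i : ℕ) j with h | h
      · exact hinj i j h hab
      · exact (hinj j i h hab.symm).symm
    · obtain ⟨i, hi⟩ := hout x
      exact ⟨(Quotient.mk st x, i), hi⟩
  have hQ : Fintype.card Q = k := by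
    have := Fintype.card_of_bijective hf
    rw [Fintype.card_prod, Fintype.card_fin, hcard, mul_comm p] at this
    exact Nat.eq_of_mul_eq_mul_right hp.out.pos this
  have hcomm : ∀ (m : M) (i : ℕ) (x : β), (m : Perm β) ((w ^ i) x) = (w ^ i) ((m : Perm β) x) := by
    intro m i x
    rw [← Perm.mul_apply, ((hc m m.2).pow_right i).eq, Perm.mul_apply]
  have hwd : ∀ (m : M) (x y : β), w.SameCycle x y ↔ w.SameCycle ((m : Perm β) x) ((m : Perm β) y) := by
    intro m x y
    rw [sameCycle_iff hw, sameCycle_iff hw]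
    exact exists_congr fun i => by rw [← hcomm, (m : Perm β).injective.eq_iff]
  let π : M →* Perm Q :=
    { toFun := fun m => Quotient.congr (m : Perm β) (hwd m)
      map_one' := Equiv.ext fun q => by
        induction q using Quotient.inductionOn with | h x => rfl
      map_mul' := fun a b => Equiv.ext fun q => by
        induction q using Quotient.inductionOn with | h x => rfl }
  have hπ : ∀ (m : M) (x : β), π m (Quotient.mk st x) = Quotient.mk st ((m : Perm β) x) := fun _ _ => rfl
  have hker : ∀ (m : π.ker) (q : Q), ∃ i : Fin p, (w ^ (i : ℕ)) q.out = ((m : M) : Perm β) q.out := by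
    intro m q
    obtain ⟨i, hi⟩ := hout (((m : M) : Perm β) q.out)
    have h1 : π (m : M) q = q := by rw [MonoidHom.mem_ker.mp m.2]; rfl
    have h2 : Quotient.mk st (((m : M) : Perm β) q.out) = q := by
      rw [← hπ, Quotient.out_eq]; exact h1
    rw [h2] at hi
    exact ⟨i, hi⟩
  choose ι hι using hker
  have hιinj : Function.Injective ι := by
    intro a b hab
    refine Subtype.ext (Subtype.ext (Equiv.ext fun x => ?_))
    obtain ⟨i, hi⟩ := hout x
    rw [← hi, hcomm, hcomm, ← hι, ← hι, hab]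
  have hkle : Nat.card π.ker ≤ p ^ k := by
    refine (Nat.card_le_card_of_injective ι hιinj).trans_eq ?_
    rw [Nat.card_eq_fintype_card, Fintype.card_fun, Fintype.card_fin, hQ]
  have hkp : IsPGroup p π.ker := fun m => ⟨1, by
    rw [pow_one]
    refine Subtype.ext (Subtype.ext (Equiv.ext fun x => ?_))
    have hq : ∀ (q : Q) (j : ℕ),
        (((m : M) : Perm β) ^ j) q.out = (w ^ ((ι m q : ℕ) * j)) q.out := by
      intro q j
      induction j with
      | zero => simp
      | succ j ih =>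
        rw [pow_succ', Perm.mul_apply, ih, hcomm, ← hι, ← Perm.mul_apply, ← pow_add, Nat.mul_succ]
    obtain ⟨i, hi⟩ := hout x
    have hcp : Commute (((m : M) : Perm β) ^ p) (w ^ (i : ℕ)) := ((hc _ (m : M).2).pow_pow p (i : ℕ))
    show (((m : M) : Perm β) ^ p) x = x
    rw [← hi, ← Perm.mul_apply, hcp.eq, Perm.mul_apply, hq, mul_comm (ι m _ : ℕ) p, pow_mul w p, hw,
      one_pow, Perm.one_apply]⟩
  obtain ⟨a, ha⟩ := IsPGroup.iff_card.mp hkp
  have hMcard : Nat.card M = Nat.card π.ker * Nat.card π.range := by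
    rw [← Subgroup.index_ker, Subgroup.card_mul_index]
  have hrange : Nat.card π.range ≤ F k :=
    ih π.range hQ (Group.nilpotent_of_surjective π.rangeRestrict π.rangeRestrict_surjective)
  have hale : a ≤ k := (Nat.pow_le_pow_iff_right hp.out.one_lt).mp (ha ▸ hkle)
  rcases Nat.lt_or_ge a k with hlt | hge
  · refine le_trans ?_ (le_max_right _ _)
    rw [hMcard, ha]
    exact Nat.mul_le_mul (Nat.pow_le_pow_right hp.out.pos (by omega)) hrange
  -- full kernel
  refine le_trans ?_ (le_max_left _ _)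
  have hak : a = k := le_antisymm hale hge
  subst hak
  have hsur : Function.Surjective ι :=
    ((Fintype.bijective_iff_injective_and_card ι).mpr ⟨hιinj, by
      rw [← Nat.card_eq_fintype_card, ha, Fintype.card_fun, Fintype.card_fin, hQ]⟩).2
  have hprime : ∀ t : M, (orderOf t).Coprime p → π t = 1 := by
    intro t ht
    refine Equiv.ext fun q => ?_
    by_contra hne
    change π t q ≠ q at hne
    obtain ⟨c, hcq⟩ := hsur fun q' => if q' = q then ⟨1, hp.out.one_lt⟩ else ⟨0, hp.out.pos⟩
    have hcomm2 : Commute ((c : M) : Perm β) (t : Perm β) := by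
      obtain ⟨j, hj⟩ := IsPGroup.iff_orderOf.mp hkp c
      have : Commute (c : M) t := Transfer.commute_of_coprime_of_nilpotent (by
        rw [Subgroup.orderOf_coe, hj]; exact (ht.symm).pow_left j)
      exact this.map M.subtype
    have hcout : ((c : M) : Perm β) q.out = w q.out := by
      rw [← hι, hcq]; simp
    set y := (t : Perm β) q.out with hy
    have hyq : Quotient.mk st y = π t q := by rw [hy, ← hπ, Quotient.out_eq]
    have hcy : ((c : M) : Perm β) y = y := by
      obtain ⟨i, hi⟩ := hout y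
      rw [← hi, hcomm, ← hι, hcq]
      simp [hyq, hne]
    refine hfp y ?_
    calc w y = (t : Perm β) (w q.out) := by rw [hy]; simpa using (hcomm t 1 q.out).symm
      _ = (t : Perm β) (((c : M) : Perm β) q.out) := by rw [hcout]
      _ = ((c : M) : Perm β) y := by rw [hy, ← Perm.mul_apply, ← hcomm2.eq, Perm.mul_apply]
      _ = y := hcy
  have hrp : IsPGroup p π.range := by
    rintro ⟨_, m, rfl⟩
    obtain ⟨a₁, b₁, -, -, hab, ⟨j, hj⟩, hb⟩ := Transfer.exists_pPart_mul (p := p) m
    refine ⟨j, Subtype.ext ?_⟩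
    show (π m) ^ p ^ j = 1
    rw [← hab, map_mul, hprime b₁ hb, mul_one, ← map_pow, orderOf_dvd_iff_pow_eq_one.mp hj, map_one]
  obtain ⟨b, hb⟩ := IsPGroup.iff_card.mp hrp
  rw [hMcard, ha, hb, ← pow_add]
  refine Nat.pow_le_pow_right hp.out.pos (Nat.add_le_add_left ?_ _)
  refine (padicValNat_dvd_iff_le (Nat.factorial_ne_zero _)).mp ?_
  rw [← hb]
  calc Nat.card π.range ∣ Nat.card (Perm Q) := Subgroup.card_subgroup_dvd_card _
    _ = (_ : ℕ) := by rw [Nat.card_perm, Nat.card_eq_fintype_card, hQ]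

theorem B_one : B p 1 = p := by
  unfold B
  rw [Nat.factorial_one, padicValNat.one, F_eq (show (1 : ℕ) < 64 by norm_num),
    show FS 1 = 1 by decide]
  simp [hp.out.one_le]

/-- Restriction of the centralizer of `z` to an invariant set. -/
def restr {α : Type u} (N : Subgroup (Perm α)) (P : α → Prop) (h : ∀ n ∈ N, ∀ x, P (n x) ↔ P x) :
    N →* Perm {x // P x} where
  toFun n := (n : Perm α).subtypePerm (h n n.2)
  map_one' := Equiv.ext fun _ => rfl
  map_mul' _ _ := Equiv.ext fun _ => rfl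

theorem pres {α : Type u} (N : Subgroup (Perm α)) {z : Perm α} (hz : ∀ n ∈ N, Commute n z) :
    ∀ n ∈ N, ∀ x, z (n x) = n x ↔ z x = x := by
  intro n hn x
  rw [← Perm.mul_apply, ← (hz n hn).eq, Perm.mul_apply, n.injective.eq_iff]

/-- Restriction to the fixed points. -/
def resFix {α : Type u} (N : Subgroup (Perm α)) {z : Perm α} (hz : ∀ n ∈ N, Commute n z) :
    N →* Perm {x // z x = x} :=
  restr N (fun x => z x = x) (pres N hz)

/-- Restriction to the moved points. -/
def resMov {α : Type u} (N : Subgroup (Perm α)) {z : Perm α} (hz : ∀ n ∈ N, Commute n z) :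
    N →* Perm {x // ¬ z x = x} :=
  restr N (fun x => ¬ z x = x) (fun m hm x => not_congr (pres N hz m hm x))

variable {α : Type u} [Fintype α] [DecidableEq α]

/-- Sizes of the fixed and moved sets of an element of prime order. -/
theorem split_card {z : Perm α} (hz : orderOf z = p) : ∃ k, k ≠ 0 ∧
    Fintype.card {x // ¬ z x = x} = p * k ∧
    Fintype.card {x // z x = x} + p * k = Fintype.card α := by
  obtain ⟨n, hn⟩ := Perm.cycleType_prime_order (σ := z) (hz.symm ▸ hp.out)
  have h1 : Fintype.card {x // ¬ z x = x} = p * (n + 1) := by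
    rw [Fintype.card_subtype, show Finset.univ.filter (fun x => ¬ z x = x) = z.support from by
      ext x; simp [Perm.mem_support], ← Perm.sum_cycleType, hn, Multiset.sum_replicate, smul_eq_mul,
      hz, mul_comm]
  refine ⟨n + 1, Nat.succ_ne_zero n, h1, ?_⟩
  have := Fintype.card_subtype_compl (fun x => z x = x)
  have := Fintype.card_subtype_le (fun x => z x = x)
  omega

theorem sign_split (N : Subgroup (Perm α)) {z : Perm α} (hz : ∀ n ∈ N, Commute n z) (n : N) :
    Perm.sign (n : Perm α) = Perm.sign (resFix N hz n) *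
      Perm.sign (resMov N hz n) := by
  conv_lhs => rw [show (n : Perm α) = Perm.ofSubtype (resFix N hz n) *
    Perm.ofSubtype (resMov N hz n) from Equiv.ext fun x => by
      rw [Perm.mul_apply]
      by_cases hx : z x = x
      · rw [Perm.ofSubtype_apply_of_not_mem (p := fun x => ¬ z x = x) _ (not_not.mpr hx),
          Perm.ofSubtype_apply_of_mem (p := fun x => z x = x) _ hx]
        rfl
      · rw [Perm.ofSubtype_apply_of_mem (p := fun x => ¬ z x = x) _ hx]
        refine ((Perm.ofSubtype_apply_of_not_mem (p := fun x => z x = x) _ ?_).trans ?_).symm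
        · exact mt (pres N hz n n.2 x).mp hx
        · rfl]
  rw [map_mul, Perm.sign_ofSubtype, Perm.sign_ofSubtype]

/-- A nilpotent group that is not a `2`-group has a central element of odd prime order. -/
theorem exists_central {G : Type u} [Group G] [Finite G] [Group.IsNilpotent G] (h : ¬ IsPGroup 2 G) :
    ∃ q : ℕ, q.Prime ∧ q ≠ 2 ∧ ∃ z : G, orderOf z = q ∧ ∀ g, Commute g z := by
  obtain ⟨q, hq, hqd, hq2⟩ : ∃ q, q.Prime ∧ q ∣ Nat.card G ∧ q ≠ 2 := by
    by_contra hcon
    push Not at hcon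
    exact h (IsPGroup.of_card (Nat.eq_prime_pow_of_unique_prime_dvd Nat.card_pos.ne'
      fun {d} hd hdd => hcon d hd hdd))
  haveI := Fact.mk hq
  obtain ⟨P⟩ : Nonempty (Sylow q G) := inferInstance
  haveI : Nontrivial (P : Subgroup G) := (Subgroup.nontrivial_iff_ne_bot _).mpr (P.ne_bot_of_dvd_card hqd)
  haveI := P.2.center_nontrivial
  obtain ⟨c, hc⟩ := exists_prime_orderOf_dvd_card' q
    ((P.2.to_subgroup (Subgroup.center (P : Subgroup G))).card_eq_or_dvd.resolve_left
      Finite.one_lt_card.ne')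
  refine ⟨q, hq, hq2, ((c : (P : Subgroup G)) : G), by rw [Subgroup.orderOf_coe, Subgroup.orderOf_coe, hc], fun g => ?_⟩
  obtain ⟨a, b, -, -, hab, ⟨j, hj⟩, hb⟩ := Transfer.exists_pPart_mul (p := q) g
  rw [← hab]
  refine Commute.mul_left ?_ ?_
  · haveI : (P : Subgroup G).Normal := Sylow.normal_of_normalizerCondition normalizerCondition_of_isNilpotent P
    have ha : a ∈ (P : Subgroup G) := Transfer.mem_sylow_of_mem_normalizer P
      ((Subgroup.normalizer_eq_top_iff.mpr (inferInstance : (P : Subgroup G).Normal)).ge (Subgroup.mem_top a)) ⟨j, hj⟩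
    exact congrArg Subtype.val (Subgroup.mem_center_iff.mp c.2 ⟨a, ha⟩)
  · refine Transfer.commute_of_coprime_of_nilpotent ?_
    rw [Subgroup.orderOf_coe, Subgroup.orderOf_coe, hc]
    exact hb

/-- The two bounds. -/
def Bound (n : ℕ) : Prop :=
  ∀ {α : Type u} [Fintype α] [DecidableEq α] (N : Subgroup (Perm α)), Fintype.card α = n →
    Group.IsNilpotent N → Nat.card N ≤ F n ∧ (N ≤ alternatingGroup α → Nat.card N ≤ H n)

/-- Data and inequalities attached to a central element of odd prime order. -/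
theorem step (N : Subgroup (Perm α)) [Group.IsNilpotent N] (hp2 : p ≠ 2) {z : Perm α} (hzN : z ∈ N)
    (hz : orderOf z = p) (hzc : ∀ n ∈ N, Commute n z)
    (ih : ∀ j < Fintype.card α, Bound.{u} j) :
    ∃ r k, k ≠ 0 ∧ r + p * k = Fintype.card α ∧ Fintype.card {x // z x = x} = r ∧
      Fintype.card {x // ¬ z x = x} = p * k ∧
      Nat.card (resFix N hzc).range ≤ F r ∧
      Nat.card (resFix N hzc).ker ≤ B p k ∧
      (N ≤ alternatingGroup α → (k = 1 → (resFix N hzc).range ≤ alternatingGroup _) ∧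
        (Nat.card N ≤ H r * B p k ∨ (k ≠ 1 ∧ 2 * Nat.card N ≤ F r * B p k))) := by
  obtain ⟨k, hk, hS, hR⟩ := split_card hz
  set r := Fintype.card {x // z x = x} with hr
  refine ⟨r, k, hk, hR, rfl, hS, ?_⟩
  have hpk : 2 * k ≤ p * k := Nat.mul_le_mul_right k hp.out.two_le
  have hrlt : r < Fintype.card α := by have := Nat.pos_of_ne_zero hk; omega
  set φ := resFix N hzc with hφ
  set ψ := resMov N hzc with hψ
  have hφnil : Group.IsNilpotent φ.range :=
    Group.nilpotent_of_surjective φ.rangeRestrict φ.rangeRestrict_surjective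
  haveI : Group.IsNilpotent ψ.range :=
    Group.nilpotent_of_surjective ψ.rangeRestrict ψ.rangeRestrict_surjective
  have hψinj : ∀ n ∈ φ.ker, ψ n = 1 → n = 1 := fun n hn h1 => Subtype.ext (Equiv.ext fun x => by
    by_cases hx : z x = x
    · exact congrArg Subtype.val (Equiv.congr_fun (MonoidHom.mem_ker.mp hn) ⟨x, hx⟩)
    · exact congrArg Subtype.val (Equiv.congr_fun h1 ⟨x, hx⟩))
  have hwp : (ψ ⟨z, hzN⟩) ^ p = 1 := by
    rw [← map_pow, show (⟨z, hzN⟩ : N) ^ p = 1 from Subtype.ext (hz ▸ pow_orderOf_eq_one z), map_one]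
  have hψB : Nat.card ψ.range ≤ B p k := by
    refine block_bound (ψ ⟨z, hzN⟩) hwp ?_ hS ψ.range ?_ ?_
    · rintro ⟨x, hx⟩ h
      exact hx (congrArg Subtype.val h)
    · rintro _ ⟨n, rfl⟩
      exact (show Commute n ⟨z, hzN⟩ from Subtype.ext (hzc n n.2).eq).map ψ
    · intro γ _ _ N' hγ hN'
      exact (ih k (by have := Nat.pos_of_ne_zero hk; omega) N' hγ hN').1
  have hkerle : Nat.card (φ.ker.map ψ) = Nat.card φ.ker := by
    refine Nat.card_congr (Equiv.ofBijective (fun y : φ.ker => (⟨ψ y, ⟨y, y.2, rfl⟩⟩ : φ.ker.map ψ)) ⟨?_, ?_⟩).symm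
    · intro a b hab
      have h1 : ψ (a : N) = ψ (b : N) := congrArg Subtype.val hab
      exact Subtype.ext (inv_mul_eq_one.mp (hψinj _ (mul_mem (inv_mem a.2) b.2)
        (by rw [map_mul, map_inv, h1, inv_mul_cancel])))
    · rintro ⟨_, y, hy, rfl⟩
      exact ⟨⟨y, hy⟩, rfl⟩
  have hker : Nat.card φ.ker ≤ B p k :=
    hkerle ▸ (Subgroup.card_le_of_le (Subgroup.map_le_range _ _)).trans hψB
  have hN : Nat.card N = Nat.card φ.ker * Nat.card φ.range := by
    rw [← Subgroup.index_ker, Subgroup.card_mul_index]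
  have hrange := ih r hrlt φ.range rfl hφnil
  refine ⟨hrange.1, hker, fun halt => ?_⟩
  have hsign : ∀ n : N, Perm.sign (φ n) * Perm.sign (ψ n) = 1 := fun n => by
    rw [← sign_split N hzc n]; exact Perm.mem_alternatingGroup.mp (halt n.2)
  have hk1 : k = 1 → φ.range ≤ alternatingGroup _ := by
    rintro rfl _ ⟨n, rfl⟩
    rw [Perm.mem_alternatingGroup]
    have hcard : Nat.card ψ.range ∣ p := by
      have h1 : orderOf (ψ ⟨z, hzN⟩) = p := orderOf_eq_prime hwp fun h => by
        obtain ⟨x, hx⟩ : ∃ x, ¬ z x = x := by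
          by_contra hcon
          push Not at hcon
          rw [show z = 1 from Equiv.ext hcon, orderOf_one] at hz
          exact hp.out.ne_one hz.symm
        exact hx (congrArg Subtype.val (Equiv.congr_fun h ⟨x, hx⟩))
      have h2 : p ∣ Nat.card ψ.range := by
        rw [← h1, ← Subgroup.orderOf_mk (ψ ⟨z, hzN⟩) (show ψ ⟨z, hzN⟩ ∈ ψ.range from ⟨_, rfl⟩)]; exact _root_.orderOf_dvd_natCard _
      have h3 : Nat.card ψ.range ≤ p := hψB.trans_eq B_one
      rw [le_antisymm h3 (Nat.le_of_dvd Nat.card_pos h2)]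
    have hpow : (ψ n) ^ p = 1 := by
      refine orderOf_dvd_iff_pow_eq_one.mp (dvd_trans ?_ hcard)
      rw [← Subgroup.orderOf_mk (ψ n) (show ψ n ∈ ψ.range from ⟨_, rfl⟩)]; exact _root_.orderOf_dvd_natCard _
    have hs : Perm.sign (ψ n) = 1 := by
      have h := congrArg Perm.sign hpow
      rw [map_pow, map_one] at h
      rcases Int.units_eq_one_or (Perm.sign (ψ n)) with h' | h'
      · exact h'
      · rw [h', (hp.out.odd_of_ne_two hp2).neg_one_pow] at h
        exact absurd h (by decide)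
    have := hsign n
    rwa [hs, mul_one] at this
  refine ⟨hk1, ?_⟩
  by_cases hev : φ.range ≤ alternatingGroup _
  · left
    rw [hN, mul_comm (H r)]
    exact Nat.mul_le_mul hker (hrange.2 hev)
  right
  refine ⟨fun h => hev (hk1 h), ?_⟩
  obtain ⟨_, ⟨n, rfl⟩, hodd⟩ := SetLike.not_le_iff_exists.mp hev
  have hlt : φ.ker.map ψ < ψ.range := by
    refine lt_of_le_of_ne (Subgroup.map_le_range _ _) fun h => hodd ?_
    obtain ⟨y, hy, hye⟩ := h.ge (⟨n, rfl⟩ : ψ n ∈ ψ.range)
    rw [Perm.mem_alternatingGroup]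
    have h1 := hsign y
    rw [MonoidHom.mem_ker.mp hy, map_one, one_mul, hye] at h1
    have h2 := hsign n
    rwa [h1, mul_one] at h2
  have h2 : 2 * Nat.card (φ.ker.map ψ) ≤ Nat.card ψ.range := by
    obtain ⟨c, hc⟩ := Subgroup.card_dvd_of_le hlt.le
    have hne : c ≠ 1 := fun h => hlt.ne (Subgroup.eq_of_le_of_card_ge hlt.le (by rw [hc, h, mul_one]))
    have h0 : c ≠ 0 := fun h => (Nat.card_pos (α := ψ.range)).ne' (by rw [hc, h, mul_zero])
    rw [hc, mul_comm 2]
    exact Nat.mul_le_mul_left _ (by omega)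
  calc 2 * Nat.card N = 2 * Nat.card (φ.ker.map ψ) * Nat.card φ.range := by rw [hN, hkerle, mul_assoc]
    _ ≤ B p k * F r := Nat.mul_le_mul (h2.trans hψB) hrange.1
    _ = F r * B p k := mul_comm _ _

omit hp in
theorem two_group_le (N : Subgroup (Perm α)) (h2 : IsPGroup 2 N) :
    Nat.card N ≤ 2 ^ e (Fintype.card α) ∧
      (N ≤ alternatingGroup α → Nat.card N ≤ 2 ^ (e (Fintype.card α) - 1)) := by
  haveI : Fact (Nat.Prime 2) := ⟨Nat.prime_two⟩
  obtain ⟨a, ha⟩ := IsPGroup.iff_card.mp h2
  refine ⟨?_, fun halt => ?_⟩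
  · rw [ha]
    refine Nat.pow_le_pow_right (by norm_num) ((padicValNat_dvd_iff_le (Nat.factorial_ne_zero _)).mp ?_)
    rw [← ha, ← Nat.card_eq_fintype_card, ← Nat.card_perm]
    exact Subgroup.card_subgroup_dvd_card N
  · rcases subsingleton_or_nontrivial α with hs | hs
    · exact le_trans (le_of_eq (Subgroup.card_eq_one.mpr (Subsingleton.elim _ _))) (Nat.one_le_two_pow)
    rw [ha]
    refine Nat.pow_le_pow_right (by norm_num) (Nat.le_sub_one_of_lt ?_)
    refine Nat.lt_of_succ_le ((padicValNat_dvd_iff_le (Nat.factorial_ne_zero _)).mp ?_)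
    rw [pow_succ', ← ha, ← Nat.card_eq_fintype_card, ← Nat.card_perm, ← two_mul_nat_card_alternatingGroup]
    exact Nat.mul_dvd_mul_left 2 (Subgroup.card_dvd_of_le halt)

theorem two_lt {n : ℕ} (h : n % 4 = 3) : 2 ^ e n < F n ∧ 2 ^ (e n - 1) < H n := by
  rw [e_three h, pow_succ, Nat.add_sub_cancel]
  unfold F H
  rw [if_pos h, if_pos h]
  refine ⟨by have := Nat.two_pow_pos (e (n - 3)); omega, ?_⟩
  split_ifs with h3
  · subst h3; rw [e_eq (by norm_num)]; decide
  · obtain ⟨d, hd⟩ := Nat.exists_eq_add_of_le (one_le_e (show 2 ≤ n - 3 by omega))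
    rw [hd, Nat.add_sub_cancel_left, pow_add]
    have := Nat.two_pow_pos d
    omega

theorem two_le_target (n : ℕ) : 2 ^ e n ≤ F n ∧ 2 ^ (e n - 1) ≤ H n := by
  by_cases h : n % 4 = 3
  · exact ⟨(two_lt h).1.le, (two_lt h).2.le⟩
  unfold F H
  rw [if_neg h, if_neg h]
  refine ⟨le_rfl, ?_⟩
  split_ifs with h5 h6 h9
  · subst h5; rw [e_eq (by norm_num)]; decide
  · subst h6; rw [e_eq (by norm_num)]; decide
  · subst h9; rw [e_eq (by norm_num)]; decide
  · exact le_rfl

/-- The main bound. -/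
theorem bound : ∀ n, Bound.{u} n := by
  intro n
  induction n using Nat.strong_induction_on with
  | _ n ih =>
  intro α _ _ N hα hN
  subst hα
  haveI := hN
  by_cases h2 : IsPGroup 2 N
  · exact ⟨(two_group_le N h2).1.trans (two_le_target _).1,
      fun h => ((two_group_le N h2).2 h).trans (two_le_target _).2⟩
  obtain ⟨q, hq, hq2, ⟨z, hzN⟩, hz, hzc⟩ := exists_central h2
  haveI := Fact.mk hq
  rw [Subgroup.orderOf_mk] at hz
  have hzc' : ∀ n ∈ N, Commute n z := fun m hm => (hzc ⟨m, hm⟩).map N.subtype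
  obtain ⟨r, k, hk, hrk, -, -, h1, h3, h4⟩ := step N hq2 hzN hz hzc' ih
  refine ⟨?_, fun halt => ?_⟩
  · rw [← hrk, ← Subgroup.card_mul_index (resFix N hzc').ker, Subgroup.index_ker, mul_comm]
    exact (Nat.mul_le_mul h1 h3).trans (sym_step hq2 hk r).1
  · obtain ⟨a1, a2⟩ := (alt_step (p := q) hq2 hk r).1
    rw [← hrk]
    rcases (h4 halt).2 with h | ⟨hk1, h⟩
    · exact h.trans a1
    · have := h.trans (a2.resolve_left hk1)
      omega

end Cfsg.Agent.PermNil
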