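import Cfsg.Agent.Lib.PermNil.Bound

/-!
Nilpotent subgroups of symmetric and alternating groups of largest order.
-/

set_option autoImplicit false

namespace Cfsg.Agent.PermNil

open Equiv

universe u

variable {α : Type u} [Fintype α] [DecidableEq α]

theorem not_two_sym (N : Subgroup (Perm α)) [Group.IsNilpotent N] (h2 : ¬ IsPGroup 2 N)
    (hn : Fintype.card α % 4 ≠ 3) : Nat.card N < F (Fintype.card α) := by
  obtain ⟨q, hq, hq2, ⟨z, hzN⟩, hz, hzc⟩ := exists_central h2
  haveI := Fact.mk hq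
  rw [Subgroup.orderOf_mk] at hz
  have hzc' : ∀ n ∈ N, Commute n z := fun m hm => (hzc ⟨m, hm⟩).map N.subtype
  obtain ⟨r, k, hk, hrk, -, -, h1, h3, -⟩ := step N hq2 hzN hz hzc' (fun j _ => bound j)
  rw [← hrk, ← Subgroup.card_mul_index (resFix N hzc').ker, Subgroup.index_ker, mul_comm]
  refine (Nat.mul_le_mul h1 h3).trans_lt ((sym_step hq2 hk r).2 ?_)
  rintro ⟨rfl, rfl, h⟩
  omega

theorem not_two_alt (N : Subgroup (Perm α)) [Group.IsNilpotent N] (h2 : ¬ IsPGroup 2 N)
    (halt : N ≤ alternatingGroup α) (hn : Fintype.card α % 4 = 0) :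
    Nat.card N < H (Fintype.card α) := by
  obtain ⟨q, hq, hq2, ⟨z, hzN⟩, hz, hzc⟩ := exists_central h2
  haveI := Fact.mk hq
  rw [Subgroup.orderOf_mk] at hz
  have hzc' : ∀ n ∈ N, Commute n z := fun m hm => (hzc ⟨m, hm⟩).map N.subtype
  obtain ⟨r, k, hk, hrk, -, -, -, -, h4⟩ := step N hq2 hzN hz hzc' (fun j _ => bound j)
  rw [← hrk] at hn ⊢
  obtain ⟨a1, a2⟩ := (alt_step (p := q) hq2 hk r).2 (Or.inl hn) (by
    rintro ⟨rfl, rfl, h⟩; omega)
  rcases (h4 halt).2 with h | ⟨hk1, h⟩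
  · exact h.trans_lt a1
  · have := h.trans_lt (a2.resolve_left hk1)
    omega

/-- The embedding attached to a splitting of the letters. -/
def emb {r : ℕ} (θ : Fin r ⊕ Fin 3 ≃ α) : Perm (Fin r) × Perm (Fin 3) →* Perm α :=
  θ.permCongrHom.toMonoidHom.comp (Perm.sumCongrHom (Fin r) (Fin 3))

omit [Fintype α] [DecidableEq α] in
theorem emb_injective {r : ℕ} (θ : Fin r ⊕ Fin 3 ≃ α) : Function.Injective (emb θ) :=
  θ.permCongrHom.injective.comp Perm.sumCongrHom_injective

/-- The model subgroup. -/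
def model {r : ℕ} (θ : Fin r ⊕ Fin 3 ≃ α) (P : Subgroup (Perm (Fin r))) : Subgroup (Perm α) :=
  (P.prod (alternatingGroup (Fin 3))).map (emb θ)

theorem sign_emb {r : ℕ} (θ : Fin r ⊕ Fin 3 ≃ α) (x : Perm (Fin r) × Perm (Fin 3)) :
    Perm.sign (emb θ x) = Perm.sign x.1 * Perm.sign x.2 := by
  show Perm.sign (θ.permCongr (Perm.sumCongr x.1 x.2)) = _
  rw [Perm.sign_permCongr, Perm.sign_sumCongr]

theorem card_alt_three : Nat.card (alternatingGroup (Fin 3)) = 3 := by
  have h := two_mul_nat_card_alternatingGroup (α := Fin 3)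
  rw [Nat.card_perm, Nat.card_fin, show Nat.factorial 3 = 6 from rfl] at h
  omega

omit [Fintype α] [DecidableEq α] in
theorem model_equiv {r : ℕ} (θ : Fin r ⊕ Fin 3 ≃ α) (P : Subgroup (Perm (Fin r))) :
    Nonempty (model θ P ≃* P × Multiplicative (ZMod 3)) := by
  haveI : Fact (Nat.Prime 3) := ⟨Nat.prime_three⟩
  refine ⟨((P.prod (alternatingGroup (Fin 3))).equivMapOfInjective _ (emb_injective θ)).symm.trans
    ((Subgroup.prodEquiv _ _).trans (MulEquiv.prodCongr (MulEquiv.refl P)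
      (mulEquivOfPrimeCardEq (p := 3) card_alt_three (by simp))))⟩

theorem card_model {r : ℕ} (θ : Fin r ⊕ Fin 3 ≃ α) (P : Subgroup (Perm (Fin r))) :
    Nat.card (model θ P) = 3 * Nat.card P := by
  obtain ⟨e⟩ := model_equiv θ P
  rw [Nat.card_congr e.toEquiv, Nat.card_prod, mul_comm]
  simp

omit [Fintype α] [DecidableEq α] in
theorem model_nilpotent {r : ℕ} (θ : Fin r ⊕ Fin 3 ≃ α) (P : Subgroup (Perm (Fin r)))
    (hP : IsPGroup 2 P) : Group.IsNilpotent (model θ P) := by
  obtain ⟨e⟩ := model_equiv θ P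
  haveI : Fact (Nat.Prime 2) := ⟨Nat.prime_two⟩
  haveI := hP.isNilpotent
  exact Group.nilpotent_of_mulEquiv e.symm

theorem model_le_alt {r : ℕ} (θ : Fin r ⊕ Fin 3 ≃ α) (P : Subgroup (Perm (Fin r)))
    (hP : P ≤ alternatingGroup (Fin r)) : model θ P ≤ alternatingGroup α := by
  rintro _ ⟨x, hx, rfl⟩
  rw [Perm.mem_alternatingGroup, sign_emb, Perm.mem_alternatingGroup.mp (hP hx.1),
    Perm.mem_alternatingGroup.mp hx.2, mul_one]

omit [Fintype α] [DecidableEq α] in
/-- Two models with conjugate two-parts are conjugate. -/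
theorem model_conj {r : ℕ} (θ₁ θ₂ : Fin r ⊕ Fin 3 ≃ α) (P₁ : Subgroup (Perm (Fin r)))
    (σ : Perm (Fin r)) (τ : Perm (Fin 3)) :
    model θ₂ (P₁.map (MulAut.conj σ).toMonoidHom) =
      (model θ₁ P₁).map (MulAut.conj ((θ₁.symm.trans θ₂ : Perm α) * emb θ₁ (σ, τ))).toMonoidHom := by
  set g : Perm α := θ₁.symm.trans θ₂
  have hprod : (P₁.map (MulAut.conj σ).toMonoidHom).prod (alternatingGroup (Fin 3)) =
      (P₁.prod (alternatingGroup (Fin 3))).map (MulAut.conj (σ, τ)).toMonoidHom := by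
    ext x
    constructor
    · rintro ⟨⟨y, hy, hye⟩, hx⟩
      refine ⟨(y, τ⁻¹ * x.2 * τ), ⟨hy, ?_⟩, ?_⟩
      · simpa using (inferInstance : (alternatingGroup (Fin 3)).Normal).conj_mem _ hx τ⁻¹
      · refine Prod.ext hye ?_
        show τ * (τ⁻¹ * x.2 * τ) * τ⁻¹ = x.2
        group
    · rintro ⟨y, hy, rfl⟩
      exact ⟨⟨y.1, hy.1, rfl⟩, (inferInstance : (alternatingGroup (Fin 3)).Normal).conj_mem _ hy.2 τ⟩
  rw [model, model, hprod, Subgroup.map_map, Subgroup.map_map]
  congr 1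
  refine MonoidHom.ext fun x => ?_
  have hg : ∀ y, emb θ₂ y = g * emb θ₁ y * g⁻¹ := fun y => Equiv.ext fun a => by
    show θ₂ (Perm.sumCongr y.1 y.2 (θ₂.symm a)) =
      θ₂ (θ₁.symm (θ₁ (Perm.sumCongr y.1 y.2 (θ₁.symm (θ₁ (θ₂.symm a))))))
    simp
  show emb θ₂ ((σ, τ) * x * (σ, τ)⁻¹) = g * emb θ₁ (σ, τ) * emb θ₁ x * (g * emb θ₁ (σ, τ))⁻¹
  rw [hg, map_mul, map_mul, map_inv]
  group

omit [Fintype α] [DecidableEq α] in
theorem cent_three : ∀ a t : Perm (Fin 3), a ≠ 1 → a * a * a = 1 → a * t = t * a → Perm.sign t = 1 := by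
  decide +kernel

/-- A group with a central three-cycle is a model. -/
theorem normal_form (N : Subgroup (Perm α)) {z : Perm α} (hzN : z ∈ N) (hz : orderOf z = 3)
    (hzc : ∀ n ∈ N, Commute n z) {r : ℕ} (hr : Fintype.card {x // z x = x} = r)
    (hm : Fintype.card {x // ¬ z x = x} = 3) (hcard : Nat.card N = 3 * Nat.card (resFix N hzc).range) :
    ∃ (θ : Fin r ⊕ Fin 3 ≃ α) (eR : {x // z x = x} ≃ Fin r),
      N = model θ ((resFix N hzc).range.map eR.permCongrHom.toMonoidHom) := by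
  let eR := Fintype.equivFinOfCardEq hr
  let eS := Fintype.equivFinOfCardEq hm
  let θ : Fin r ⊕ Fin 3 ≃ α := (Equiv.sumCongr eR.symm eS.symm).trans (Equiv.sumCompl fun x => z x = x)
  refine ⟨θ, eR, Subgroup.eq_of_le_of_card_ge (fun n hn => ?_) ?_⟩
  · refine ⟨(eR.permCongr (resFix N hzc ⟨n, hn⟩), eS.permCongr (resMov N hzc ⟨n, hn⟩)), ⟨⟨_, ⟨_, rfl⟩, rfl⟩, ?_⟩, ?_⟩
    · show eS.permCongr (resMov N hzc ⟨n, hn⟩) ∈ alternatingGroup (Fin 3)
      rw [Perm.mem_alternatingGroup]
      refine cent_three (eS.permCongrHom (resMov N hzc ⟨z, hzN⟩)) _ ?_ ?_ ?_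
      · intro h
        rw [MulEquiv.map_eq_one_iff] at h
        obtain ⟨⟨x, hx⟩⟩ : Nonempty {x // ¬ z x = x} := Fintype.card_pos_iff.mp (by omega)
        exact hx (congrArg Subtype.val (Equiv.congr_fun h ⟨x, hx⟩))
      · rw [← map_mul, ← map_mul, ← map_mul, ← map_mul,
          show (⟨z, hzN⟩ : N) * ⟨z, hzN⟩ * ⟨z, hzN⟩ = 1 from Subtype.ext (by
            show z * z * z = 1
            rw [← pow_orderOf_eq_one z, hz, pow_succ, pow_succ, pow_one]), map_one, map_one]
      · exact (((show Commute (⟨z, hzN⟩ : N) ⟨n, hn⟩ from Subtype.ext (hzc n hn).eq.symm).map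
          (resMov N hzc)).map eS.permCongrHom.toMonoidHom).eq
    · refine Equiv.ext fun x => ?_
      show θ (Perm.sumCongr _ _ (θ.symm x)) = n x
      by_cases hx : z x = x
      · have e1 : θ.symm x = Sum.inl (eR ⟨x, hx⟩) := by
          rw [Equiv.symm_apply_eq]; simp [θ]
        rw [e1]
        simp [θ, Equiv.permCongr_apply]
        rfl
      · have e1 : θ.symm x = Sum.inr (eS ⟨x, hx⟩) := by
          rw [Equiv.symm_apply_eq]; simp [θ]
        rw [e1]
        simp [θ, Equiv.permCongr_apply]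
        rfl
  · rw [card_model, hcard, Subgroup.card_map_of_injective eR.permCongrHom.injective]

/-- Subgroups of symmetric groups attaining the bound when the degree is `3` modulo `4`. -/
theorem eq_sym (N : Subgroup (Perm α)) [Group.IsNilpotent N] {r : ℕ} (hr : r + 3 = Fintype.card α)
    (hn : r % 4 = 0) (hN : Nat.card N = 3 * 2 ^ e r) :
    ∃ (θ : Fin r ⊕ Fin 3 ≃ α) (P : Subgroup (Perm (Fin r))),
      N = model θ P ∧ Nat.card P = 2 ^ e r := by
  have hFn : F (Fintype.card α) = 3 * 2 ^ e r := by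
    unfold F; rw [if_pos (by omega), show Fintype.card α - 3 = r by omega]
  have h2 : ¬ IsPGroup 2 N := fun h => by
    have h1 := (two_group_le N h).1
    have h3 := (two_lt (n := Fintype.card α) (by omega)).1
    omega
  obtain ⟨q, hq, hq2, ⟨z, hzN⟩, hz, hzc⟩ := exists_central h2
  haveI := Fact.mk hq
  rw [Subgroup.orderOf_mk] at hz
  have hzc' : ∀ n ∈ N, Commute n z := fun m hm => (hzc ⟨m, hm⟩).map N.subtype
  obtain ⟨r', k, hk, hrk, hR, hS, h1, h3, -⟩ := step N hq2 hzN hz hzc' (fun j _ => bound j)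
  have hle : Nat.card N ≤ F r' * B q k := by
    rw [← Subgroup.card_mul_index (resFix N hzc').ker, Subgroup.index_ker, mul_comm]
    exact Nat.mul_le_mul h1 h3
  obtain ⟨rfl, rfl, -⟩ : q = 3 ∧ k = 1 ∧ r' % 4 = 0 := by
    by_contra hne
    have := (sym_step (p := q) hq2 hk r').2 hne
    rw [hrk] at this
    omega
  obtain rfl : r' = r := by omega
  have hN' : Nat.card N = Nat.card (resFix N hzc').ker * Nat.card (resFix N hzc').range := by
    rw [← Subgroup.index_ker, Subgroup.card_mul_index]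
  rw [B_one] at h3
  have hF : F r' = 2 ^ e r' := by unfold F; rw [if_neg (by omega)]
  have hrange : Nat.card (resFix N hzc').range = 2 ^ e r' := by
    refine le_antisymm (hF ▸ h1) (Nat.le_of_mul_le_mul_left ?_ (show 0 < 3 by norm_num))
    rw [← hN, hN']
    exact Nat.mul_le_mul_right _ h3
  obtain ⟨θ, eR, he⟩ := normal_form N hzN hz hzc' hR (by rw [hS]) (by rw [hrange, hN])
  exact ⟨θ, _, he, by rw [Subgroup.card_map_of_injective eR.permCongrHom.injective, hrange]⟩

/-- Subgroups of alternating groups attaining the bound when the degree is `3` modulo `4`. -/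
theorem eq_alt (N : Subgroup (Perm α)) [Group.IsNilpotent N] (halt : N ≤ alternatingGroup α) {r : ℕ}
    (hr : r + 3 = Fintype.card α) (hn : r % 4 = 0) (hN : Nat.card N = 3 * 2 ^ (e r - 1)) :
    ∃ (θ : Fin r ⊕ Fin 3 ≃ α) (P : Subgroup (Perm (Fin r))),
      N = model θ P ∧ Nat.card P = 2 ^ (e r - 1) ∧ P ≤ alternatingGroup (Fin r) := by
  have hHn : H (Fintype.card α) = 3 * 2 ^ (e r - 1) := by
    unfold H
    rw [if_pos (by omega), show Fintype.card α - 3 = r by omega]
    split_ifs with h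
    · obtain rfl : r = 0 := by omega
      rw [e_eq (by norm_num)]; rfl
    · rfl
  have h2 : ¬ IsPGroup 2 N := fun h => by
    have h1 := (two_group_le N h).2 halt
    have h3 := (two_lt (n := Fintype.card α) (by omega)).2
    omega
  obtain ⟨q, hq, hq2, ⟨z, hzN⟩, hz, hzc⟩ := exists_central h2
  haveI := Fact.mk hq
  rw [Subgroup.orderOf_mk] at hz
  have hzc' : ∀ n ∈ N, Commute n z := fun m hm => (hzc ⟨m, hm⟩).map N.subtype
  obtain ⟨r', k, hk, hrk, hR, hS, h1, h3, h4⟩ := step N hq2 hzN hz hzc' (fun j _ => bound j)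
  obtain ⟨rfl, rfl, -⟩ : q = 3 ∧ k = 1 ∧ r' % 4 = 0 := by
    by_contra hne
    obtain ⟨a1, a2⟩ := (alt_step (p := q) hq2 hk r').2 (Or.inr (by omega)) hne
    rw [hrk] at a1 a2
    rcases (h4 halt).2 with h | ⟨hk1, h⟩
    · omega
    · have := a2.resolve_left hk1
      omega
  obtain rfl : r' = r := by omega
  have hev := (h4 halt).1 rfl
  haveI hnil : Group.IsNilpotent (resFix N hzc').range :=
    Group.nilpotent_of_surjective (resFix N hzc').rangeRestrict (resFix N hzc').rangeRestrict_surjective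
  have hH : H r' = 2 ^ (e r' - 1) := by
    unfold H
    rw [if_neg (by omega), if_neg (by omega), if_neg (by omega), if_neg (by omega)]
  have hrle : Nat.card (resFix N hzc').range ≤ 2 ^ (e r' - 1) :=
    hH ▸ ((bound r' (resFix N hzc').range hR hnil).2 hev)
  rw [B_one] at h3
  have hN' : Nat.card N = Nat.card (resFix N hzc').ker * Nat.card (resFix N hzc').range := by
    rw [← Subgroup.index_ker, Subgroup.card_mul_index]
  have hrange : Nat.card (resFix N hzc').range = 2 ^ (e r' - 1) := by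
    refine le_antisymm hrle (Nat.le_of_mul_le_mul_left ?_ (show 0 < 3 by norm_num))
    rw [← hN, hN']
    exact Nat.mul_le_mul_right _ h3
  obtain ⟨θ, eR, he⟩ := normal_form N hzN hz hzc' hR (by rw [hS]) (by rw [hrange, hN])
  refine ⟨θ, _, he, by rw [Subgroup.card_map_of_injective eR.permCongrHom.injective, hrange], ?_⟩
  rintro _ ⟨y, hy, rfl⟩
  rw [Perm.mem_alternatingGroup]
  exact (Perm.sign_permCongr eR y).trans (Perm.mem_alternatingGroup.mp (hev hy))

theorem perm_factorization (n : ℕ) : (Nat.card (Perm (Fin n))).factorization 2 = e n := by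
  rw [Nat.card_perm, Nat.card_eq_fintype_card, Fintype.card_fin, Nat.factorization_def _ Nat.prime_two]
  rfl

theorem alt_factorization (n : ℕ) :
    (Nat.card (alternatingGroup (Fin n))).factorization 2 = e n - 1 := by
  rcases Nat.lt_or_ge n 2 with h | h
  · haveI : Subsingleton (Perm (Fin n)) := by
      interval_cases n <;> infer_instance
    rw [Nat.card_of_subsingleton (1 : alternatingGroup (Fin n)), Nat.factorization_one]
    interval_cases n <;> (rw [e_eq (by norm_num)]; rfl)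
  · haveI : Nontrivial (Fin n) := Fin.nontrivial_iff_two_le.mpr h
    have h1 := two_mul_nat_card_alternatingGroup (α := Fin n)
    have h2 := perm_factorization n
    rw [← h1, Nat.factorization_mul (by norm_num) Nat.card_pos.ne', Finsupp.add_apply,
      Nat.Prime.factorization_self Nat.prime_two] at h2
    omega

/-- Two subgroups of the order of a Sylow subgroup are conjugate. -/
theorem conj_of_card {G : Type*} [Group G] [Finite G] {p : ℕ} [Fact p.Prime] (P Q : Subgroup G)
    (hP : Nat.card P = p ^ (Nat.card G).factorization p) (hQ : Nat.card Q = p ^ (Nat.card G).factorization p) :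
    ∃ g : G, P.map (MulAut.conj g).toMonoidHom = Q := by
  obtain ⟨g, hg⟩ := MulAction.exists_smul_eq G (Sylow.ofCard P hP) (Sylow.ofCard Q hQ)
  refine ⟨g, ?_⟩
  have := congrArg (fun S : Sylow p G => (S : Subgroup G)) hg
  simp only [Sylow.coe_subgroup_smul, Sylow.coe_ofCard] at this
  exact this

end Cfsg.Agent.PermNil
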